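import Cfsg.Agent.Lib.GaloisPow.Twist
import Cfsg.Agent.Lib.Char.Inner
import Cfsg.Agent.Lib.Char.PRegular
import Cfsg.Agent.Lib.Blocks.HeightZeroValues
import Cfsg.Agent.Lib.Blocks.Induced

/-!
# The number of `p`-conjugates of a character

Let `S g` be the sum, over the units `j` modulo `P = p ^ a`, of the conjugates of `χ g`, divided by
`p ^ (a - 1)`.  It is integral, and `∑ g, S g * conj (χ g) = (p - 1) |G| / r`; so `v (r χ(1)) ≤ a`.
In case of equality the orbit is a union of blocks, weak orthogonality gives `S (x y) = 0` for a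
defect class `y`, while `S (x y) ≡ - χ y` modulo `p` for `x` of order `p`.

* `main`: both statements.
-/

set_option autoImplicit false

open scoped ComplexConjugate

namespace Cfsg.Agent.PConjCount

open Cfsg Cfsg.Agent.Blocks

variable {G : Type*} [Group G] [Finite G] {p : ℕ} [Fact p.Prime]

theorem sum_units_pow {b : ℕ} (v : ℂ) (hv : v ^ p ^ (b + 1) = 1) :
    ∑ j : (ZMod (p ^ (b + 1)))ˣ, v ^ ((j : ZMod (p ^ (b + 1))).val) =
      (if v = 1 then (p : ℂ) ^ (b + 1) else 0) - (if v ^ p = 1 then (p : ℂ) ^ b else 0) := by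
  classical
  have hp : p.Prime := Fact.out
  set P := p ^ (b + 1) with hP
  have : NeZero P := ⟨pow_ne_zero _ hp.ne_zero⟩
  have hgeom : ∀ (w : ℂ) (n : ℕ), w ^ n = 1 →
      ∑ i ∈ Finset.range n, w ^ i = if w = 1 then (n : ℂ) else 0 := by
    intro w n hw
    split_ifs with h1
    · simp [h1]
    · rw [geom_sum_eq h1, hw, sub_self, zero_div]
  have hcop : ∀ n : ℕ, n.Coprime P ↔ ¬ p ∣ n := fun n => by
    rw [hP, Nat.coprime_pow_right_iff b.succ_pos, Nat.coprime_comm, hp.coprime_iff_not_dvd]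
  have h1 : ∑ j : (ZMod P)ˣ, v ^ ((j : ZMod P).val) =
      ∑ n ∈ (Finset.range P).filter (fun n => ¬ p ∣ n), v ^ n := by
    refine Finset.sum_bij' (fun j _ => (j : ZMod P).val)
      (fun n hn => ZMod.unitOfCoprime n ((hcop n).2 (Finset.mem_filter.1 hn).2))
      (fun j _ => ?_) (fun n hn => Finset.mem_univ _) (fun j _ => ?_) (fun n hn => ?_) fun j _ => rfl
    · exact Finset.mem_filter.2 ⟨Finset.mem_range.2 (ZMod.val_lt _),
        (hcop _).1 (ZMod.val_coe_unit_coprime j)⟩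
    · exact Units.ext (by simp)
    · simp only [ZMod.coe_unitOfCoprime, ZMod.val_natCast]
      exact Nat.mod_eq_of_lt (Finset.mem_range.1 (Finset.mem_filter.1 hn).1)
  have h2 : ∑ n ∈ (Finset.range P).filter (fun n => p ∣ n), v ^ n =
      ∑ n ∈ Finset.range (p ^ b), (v ^ p) ^ n := by
    refine Finset.sum_bij' (fun n _ => n / p) (fun n _ => p * n) (fun n hn => ?_) (fun n hn => ?_)
      (fun n hn => ?_) (fun n _ => Nat.mul_div_cancel_left n hp.pos) fun n hn => ?_
    · rw [Finset.mem_range, Nat.div_lt_iff_lt_mul hp.pos, ← pow_succ, ← hP]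
      exact Finset.mem_range.1 (Finset.mem_filter.1 hn).1
    · refine Finset.mem_filter.2 ⟨Finset.mem_range.2 ?_, dvd_mul_right _ _⟩
      rw [hP, pow_succ']
      exact Nat.mul_lt_mul_of_pos_left (Finset.mem_range.1 hn) hp.pos
    · exact Nat.mul_div_cancel' (Finset.mem_filter.1 hn).2
    · rw [← pow_mul, Nat.mul_div_cancel' (Finset.mem_filter.1 hn).2]
  rw [h1, eq_sub_iff_add_eq, show (if v ^ p = 1 then (p : ℂ) ^ b else 0) =
      ∑ n ∈ (Finset.range P).filter (fun n => p ∣ n), v ^ n by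
    rw [h2, hgeom _ _ (by rw [← pow_mul, ← pow_succ', ← hP, hv])]
    simp, add_comm, Finset.sum_filter_add_sum_filter_not, hgeom _ _ hv]
  simp [hP]

omit [Fact p.Prime] in
theorem apply_aut_eq (σ : ℂ ≃+* ℂ) {k : ℕ} (hσ : ∀ z : ℂ, z ^ Nat.card G = 1 → σ z = z ^ k)
    {χ : G → ℂ} (hχ : IsCharacter G χ) (g : G) : σ (χ g) = χ (g ^ k) := by
  obtain ⟨n, ρ, rfl⟩ := hχ
  obtain ⟨b, μ, hμ, hroot⟩ := Char.exists_eigenbasis ρ g
  rw [Char.character_pow ρ g b μ hμ, Char.character_eq_sum_eigenvalues ρ g b μ hμ, map_sum]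
  refine Finset.sum_congr rfl fun i _ => hσ _ ?_
  obtain ⟨c, hc⟩ := orderOf_dvd_natCard g
  rw [hc, pow_mul, hroot i, one_pow]

theorem main (χ : IrrCharacter G) (r : ℕ)
    (hr : Nat.card {ψ : IrrCharacter G // ∃ σ : ℂ ≃+* ℂ,
      σ (Complex.exp (2 * Real.pi * Complex.I /
          ((Nat.card G / p ^ (Nat.card G).factorization p) : ℕ))) =
        Complex.exp (2 * Real.pi * Complex.I /
          ((Nat.card G / p ^ (Nat.card G).factorization p) : ℕ)) ∧
      (ψ : G → ℂ) = fun g => σ ((χ : G → ℂ) g)} = r) :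
    (r * charDegree (χ : G → ℂ)).factorization p ≤ (Nat.card G).factorization p ∧
      (p ^ (Nat.card G).factorization p ∣ r * charDegree (χ : G → ℂ) →
        p ^ (Nat.card G).factorization p ∣ charDegree (χ : G → ℂ)) := by
  classical
  have := Fintype.ofFinite G
  have := Fintype.ofFinite (IrrCharacter G)
  have hp : p.Prime := Fact.out
  set N := Nat.card G with hN
  set a := N.factorization p with ha
  set m := N / p ^ a with hm
  set P := p ^ a with hPdef
  have hN0 : N ≠ 0 := Nat.card_pos.ne'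
  have hNeq : m * P = N := Nat.div_mul_cancel (Nat.ordProj_dvd N p)
  have hm0 : m ≠ 0 := fun h => hN0 (by rw [← hNeq, h, zero_mul])
  have hpm : ¬ p ∣ m := Nat.not_dvd_ordCompl hp hN0
  have : NeZero P := ⟨pow_ne_zero _ hp.ne_zero⟩
  have : NeZero m := ⟨hm0⟩
  have hmP : m.Coprime P := (Nat.Coprime.pow_left _ (hp.coprime_iff_not_dvd.2 hpm)).symm
  obtain ⟨k₀, hk₀m, hk₀P⟩ := Nat.chineseRemainder hmP 1 0
  obtain ⟨k₁, hk₁m, hk₁P⟩ := Nat.chineseRemainder hmP 0 1
  have hcrt : ∀ {c d : ℕ}, c ≡ d [MOD m] → c ≡ d [MOD P] → c ≡ d [MOD N] := fun h h' =>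
    hNeq ▸ (Nat.modEq_and_modEq_iff_modEq_mul hmP).1 ⟨h, h'⟩
  let kf : ℕ → ℕ := fun n => k₀ + n * k₁
  have hkm : ∀ n, kf n ≡ 1 [MOD m] := fun n => by
    simpa [kf] using hk₀m.add (hk₁m.mul_left n)
  have hkP : ∀ n, kf n ≡ n [MOD P] := fun n => by
    simpa [kf] using hk₀P.add (hk₁P.mul_left n)
  have hroot : ∀ (z : ℂ), z ^ N = 1 → ∀ {c d : ℕ}, c ≡ d [MOD N] → z ^ c = z ^ d :=
    fun z hz c d h => by
      rw [← Nat.mod_add_div c N, ← Nat.mod_add_div d N, pow_add, pow_add, pow_mul, pow_mul, hz,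
        one_pow, one_pow, show c % N = d % N from h]
  have hgpow : ∀ (g : G) {c d : ℕ}, c ≡ d [MOD N] → g ^ c = g ^ d := fun g c d h =>
    pow_eq_pow_iff_modEq.2 (h.of_dvd (orderOf_dvd_natCard g))
  have hkcop : ∀ j : (ZMod P)ˣ, (kf (j : ZMod P).val).Coprime N := fun j => by
    rw [← hNeq]
    refine Nat.Coprime.mul_right ?_ ?_
    · rw [Nat.Coprime, (hkm _).gcd_eq]
      exact Nat.gcd_one_left m
    · rw [Nat.Coprime, (hkP _).gcd_eq]
      exact ZMod.val_coe_unit_coprime j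
  let f : (ZMod P)ˣ → IrrCharacter G := fun j => GaloisPow.powIrr (hkcop j) χ
  have hf : ∀ j g, (f j : G → ℂ) g = (χ : G → ℂ) (g ^ kf (j : ZMod P).val) := fun j g => rfl
  have hfmul : ∀ i j g, (f (i * j) : G → ℂ) g = (f i : G → ℂ) (g ^ kf (j : ZMod P).val) := by
    intro i j g
    rw [hf, hf, ← pow_mul]
    refine congrArg _ (hgpow g (hcrt ?_ ?_))
    · exact (hkm _).trans (((hkm _).mul (hkm _)).symm.trans (by rfl)) |>.trans (by rfl)
    · refine (hkP _).trans ?_
      refine Nat.ModEq.trans ?_ ((hkP _).mul (hkP _)).symm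
      rw [← ZMod.natCast_eq_natCast_iff]
      simp [mul_comm]
  have hf1 : ∀ g, (f 1 : G → ℂ) g = (χ : G → ℂ) g := by
    intro g
    rw [hf]
    conv_rhs => rw [← pow_one g]
    refine congrArg _ (hgpow g (hcrt (hkm _) ((hkP _).trans ?_)))
    rw [← ZMod.natCast_eq_natCast_iff]
    simp
  -- the orbit
  set O : Finset (IrrCharacter G) := Finset.univ.image f with hOdef
  have hω := Complex.isPrimitiveRoot_exp m hm0
  have hr' : O.card = r := by
    rw [← hr, ← Nat.card_eq_finsetCard]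
    refine Nat.card_congr (Equiv.subtypeEquivRight fun ψ => ?_)
    rw [hOdef, Finset.mem_image]
    constructor
    · rintro ⟨j, -, rfl⟩
      obtain ⟨σ, hσ⟩ := GaloisPow.exists_ringAut hN0 (hkcop j)
      refine ⟨σ, ?_, funext fun g => ?_⟩
      · rw [hσ _ (by rw [← hNeq, pow_mul, hω.pow_eq_one, one_pow])]
        rw [pow_eq_pow_mod _ hω.pow_eq_one, hkm _, ← pow_eq_pow_mod _ hω.pow_eq_one, pow_one]
      · rw [hf, apply_aut_eq σ hσ (Char.IsIrrCharacter.isCharacter χ.2)]
    · rintro ⟨σ, hσω, hψ⟩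
      have hz1 := Complex.isPrimitiveRoot_exp P (NeZero.ne P)
      set z1 := Complex.exp (2 * Real.pi * Complex.I / (P : ℕ))
      have hσz : IsPrimitiveRoot (σ z1) P := hz1.map_of_injective σ.injective
      obtain ⟨n, hnP, hn⟩ := hz1.eq_pow_of_pow_eq_one hσz.pow_eq_one
      have hncop : n.Coprime P := (hz1.pow_iff_coprime (NeZero.pos P) n).1 (hn ▸ hσz)
      refine ⟨ZMod.unitOfCoprime n hncop, Finset.mem_univ _, Subtype.ext ?_⟩
      rw [hψ]
      funext g
      rw [hf]
      refine (apply_aut_eq σ (fun z hz => ?_) (Char.IsIrrCharacter.isCharacter χ.2) g).symm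
      rw [ZMod.coe_unitOfCoprime, ZMod.val_natCast, Nat.mod_eq_of_lt hnP]
      have e : z = z ^ k₀ * z ^ k₁ := by
        rw [← pow_add]
        conv_lhs => rw [← pow_one z]
        exact hroot z hz (hcrt (by simpa using (hk₀m.add hk₁m).symm)
          (by simpa using (hk₀P.add hk₁P).symm))
      have e0 : σ (z ^ k₀) = z ^ k₀ := by
        have : (z ^ k₀) ^ m = 1 := by
          obtain ⟨c, hc⟩ := (Nat.modEq_zero_iff_dvd.1 hk₀P)
          rw [← pow_mul, hc, show P * c * m = N * c by rw [← hNeq]; ring, pow_mul, hz, one_pow]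
        obtain ⟨i, -, hi⟩ := hω.eq_pow_of_pow_eq_one this
        rw [← hi, map_pow, hσω]
      have e1 : σ (z ^ k₁) = (z ^ k₁) ^ n := by
        have : (z ^ k₁) ^ P = 1 := by
          obtain ⟨c, hc⟩ := (Nat.modEq_zero_iff_dvd.1 hk₁m)
          rw [← pow_mul, hc, show m * c * P = N * c by rw [← hNeq]; ring, pow_mul, hz, one_pow]
        obtain ⟨i, -, hi⟩ := hz1.eq_pow_of_pow_eq_one this
        rw [← hi, map_pow, ← hn, ← pow_mul, ← pow_mul, mul_comm]
      conv_lhs => rw [e]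
      rw [map_mul, e0, e1, ← pow_mul, ← pow_add, mul_comm]
  have hfib : ∀ ψ ∈ O, (Finset.univ.filter fun j => f j = ψ).card =
      (Finset.univ.filter fun j => f j = f 1).card := by
    intro ψ hψ
    obtain ⟨j₀, -, rfl⟩ := Finset.mem_image.1 hψ
    have hshift : ∀ i, f i = f 1 → f (i * j₀) = f j₀ := fun i hi => by
      refine Subtype.ext (funext fun g => ?_)
      rw [hfmul, hi, hf1, hf]
    refine Finset.card_bij' (fun j _ => j * j₀⁻¹) (fun i _ => i * j₀) (fun j hj => ?_)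
      (fun i hi => ?_) (fun j _ => inv_mul_cancel_right j j₀) (fun i _ => mul_inv_cancel_right i j₀)
    · refine Finset.mem_filter.2 ⟨Finset.mem_univ _, Subtype.ext (funext fun g => ?_)⟩
      rw [hfmul, (Finset.mem_filter.1 hj).2, ← hfmul, mul_inv_cancel]
    · exact Finset.mem_filter.2 ⟨Finset.mem_univ _, hshift i (Finset.mem_filter.1 hi).2⟩
  set s := (Finset.univ.filter fun j => f j = f 1).card with hs
  have hrs : r * s = Fintype.card (ZMod P)ˣ := by
    rw [← hr', ← Finset.card_univ, Finset.card_eq_sum_card_image f Finset.univ,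
      Finset.sum_congr rfl hfib, Finset.sum_const, smul_eq_mul]
  have hχdvd := charDegree_dvd_card χ
  rcases Nat.eq_zero_or_pos a with ha0 | hapos
  · -- `p` does not divide the order
    rw [ZMod.card_units_eq_totient, hPdef, ha0, pow_zero, Nat.totient_one] at hrs
    have hr1 : r = 1 := by
      exact Nat.eq_one_of_mul_eq_one_right hrs
    rw [hr1, one_mul]
    exact ⟨(Nat.factorization_le_iff_dvd (charDegree_pos χ).ne' hN0).2 hχdvd p, id⟩
  obtain ⟨b, hb⟩ : ∃ b, a = b + 1 := ⟨a - 1, by omega⟩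
  have hrs' : r * s = p ^ b * (p - 1) := by
    rw [hrs, ZMod.card_units_eq_totient, hPdef, hb, Nat.totient_prime_pow_succ hp]
  have hr0 : r ≠ 0 := fun h => by
    rw [h, zero_mul] at hrs'
    exact (Nat.mul_pos (pow_pos hp.pos b) (Nat.sub_pos_of_lt hp.one_lt)).ne hrs'
  -- the average and its integrality
  let Ψ : G → ℂ := fun g => ∑ ψ ∈ O, (ψ : G → ℂ) g
  have hT : ∀ g, ∑ j : (ZMod P)ˣ, (f j : G → ℂ) g = (s : ℂ) * Ψ g := by
    intro g
    rw [← Finset.sum_fiberwise_of_maps_to (t := O) (g := f) (fun j _ => Finset.mem_image_of_mem f (Finset.mem_univ j)),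
      Finset.mul_sum]
    refine Finset.sum_congr rfl fun ψ hψ => ?_
    rw [Finset.sum_congr rfl (g := fun _ => (ψ : G → ℂ) g) fun j hj => by
      rw [(Finset.mem_filter.1 hj).2], Finset.sum_const, hfib ψ hψ, nsmul_eq_mul]
  let S : G → ℂ := fun g => ((p : ℂ) - 1) / r * Ψ g
  have hTS : ∀ g, ∑ j : (ZMod P)ˣ, (f j : G → ℂ) g = (p : ℂ) ^ b * S g := by
    intro g
    rw [hT]
    have h1 : (r : ℂ) * s = (p : ℂ) ^ b * ((p : ℂ) - 1) := by
      rw [← Nat.cast_mul, hrs', Nat.cast_mul, Nat.cast_pow, Nat.cast_sub hp.pos, Nat.cast_one]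
    simp only [S]
    have : (r : ℂ) ≠ 0 := Nat.cast_ne_zero.2 hr0
    field_simp
    linear_combination (Ψ g) * h1
  have hpC : (p : ℂ) ^ b ≠ 0 := pow_ne_zero _ (Nat.cast_ne_zero.2 hp.ne_zero)
  have key : ∀ g : G, IsIntegral ℤ (S g) ∧ (g ^ (p * m) = 1 →
      ∃ w : ℂ, IsIntegral ℤ w ∧ S g + (χ : G → ℂ) (g ^ k₀) = (p : ℂ) * w) := by
    intro g
    obtain ⟨n, ρ, hρ⟩ := Char.IsIrrCharacter.isCharacter χ.2
    obtain ⟨B, μ, hμ, hμroot⟩ := Char.exists_eigenbasis ρ g
    have hμN : ∀ i, μ i ^ N = 1 := fun i => by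
      obtain ⟨c, hc⟩ := orderOf_dvd_natCard g
      rw [hN, hc, pow_mul, hμroot i, one_pow]
    have hint : ∀ i, IsIntegral ℤ (μ i) := fun i =>
      IsIntegral.of_pow (Nat.pos_of_ne_zero hN0) (by rw [hμN i]; exact isIntegral_one)
    have hpow : ∀ k, (χ : G → ℂ) (g ^ k) = ∑ i, μ i ^ k := fun k => by
      rw [← hρ]
      exact Char.character_pow ρ g B μ hμ k
    have hS : S g = ∑ i, μ i ^ k₀ *
        ((if μ i ^ k₁ = 1 then (p : ℂ) else 0) - if (μ i ^ k₁) ^ p = 1 then 1 else 0) := by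
      refine mul_left_cancel₀ hpC ?_
      rw [← hTS, Finset.mul_sum]
      simp only [hf, hpow]
      rw [Finset.sum_comm]
      refine Finset.sum_congr rfl fun i _ => ?_
      simp only [kf, pow_add, mul_comm _ k₁, pow_mul]
      rw [← Finset.mul_sum]
      have hv : (μ i ^ k₁) ^ p ^ (b + 1) = 1 := by
        obtain ⟨c, hc⟩ := (Nat.modEq_zero_iff_dvd.1 hk₁m)
        rw [← pow_mul, hc, ← hb, ← hPdef, show m * c * P = N * c by rw [← hNeq]; ring, pow_mul,
          hμN, one_pow]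
      have hPb : P = p ^ (b + 1) := by rw [hPdef, hb]
      clear_value P
      subst hPb
      rw [sum_units_pow _ hv]
      split_ifs <;> ring
    refine ⟨?_, fun hg => ?_⟩
    · rw [hS]
      refine IsIntegral.sum _ fun i _ => ((hint i).pow _).mul (IsIntegral.sub ?_ ?_) <;> split_ifs
      · simpa using (isIntegral_algebraMap (R := ℤ) (A := ℂ) (x := (p : ℤ)))
      · exact isIntegral_zero
      · exact isIntegral_one
      · exact isIntegral_zero
    · have hv1 : ∀ i, (μ i ^ k₁) ^ p = 1 := fun i => by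
        obtain ⟨c, hc⟩ := (Nat.modEq_zero_iff_dvd.1 hk₁m)
        obtain ⟨d, hd⟩ := orderOf_dvd_of_pow_eq_one hg
        rw [← pow_mul, hc, show m * c * p = p * m * c by ring, hd, pow_mul, pow_mul, hμroot i,
          one_pow, one_pow]
      refine ⟨∑ i, μ i ^ k₀ * (if μ i ^ k₁ = 1 then (1 : ℂ) else 0), ?_, ?_⟩
      · refine IsIntegral.sum _ fun i _ => ((hint i).pow _).mul ?_
        split_ifs
        exacts [isIntegral_one, isIntegral_zero]
      · rw [hS, hpow, ← Finset.sum_add_distrib, Finset.mul_sum]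
        refine Finset.sum_congr rfl fun i _ => ?_
        rw [if_pos (hv1 i)]
        split_ifs <;> ring
  -- the scalar product
  have hinner : ∀ ψ : IrrCharacter G, ∑ g, S g * conj ((ψ : G → ℂ) g) =
      ((p : ℂ) - 1) / r * if ψ ∈ O then (N : ℂ) else 0 := by
    intro ψ
    simp only [S, Ψ, mul_assoc, Finset.sum_mul, ← Finset.mul_sum]
    rw [Finset.sum_comm]
    congr 1
    have h1 : ∀ θ : IrrCharacter G, ∑ g, (θ : G → ℂ) g * conj ((ψ : G → ℂ) g) =
        if θ = ψ then (N : ℂ) else 0 := by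
      intro θ
      have h := Char.classInner_irr θ.2 ψ.2
      rw [classInner, inv_mul_eq_iff_eq_mul₀ (Nat.cast_ne_zero.2 hN0)] at h
      rw [h, hN]
      by_cases hθ : θ = ψ
      · simp [hθ]
      · rw [if_neg hθ, if_neg (fun e : (θ : G → ℂ) = (ψ : G → ℂ) => hθ (Subtype.ext e)), mul_zero]
    rw [Finset.sum_congr rfl fun θ _ => h1 θ, Finset.sum_ite_eq']
  have hScf : IsClassFunction G S := fun g h => by
    simp only [S, Ψ]
    rw [Finset.sum_congr rfl fun ψ _ => irr_class ψ g h]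
  have hχO : χ ∈ O := by
    rw [hOdef, Finset.mem_image]
    exact ⟨1, Finset.mem_univ _, Subtype.ext (funext hf1)⟩
  let z : G → ℂ := fun g => S g⁻¹
  have hzcf : IsClassFunction G z := fun g h => by
    show S (h * g * h⁻¹)⁻¹ = S g⁻¹
    rw [← hScf g⁻¹ h]
    congr 1
    group
  have homega : ∀ ψ : IrrCharacter G, omega (ψ : G → ℂ) z =
      (((p : ℂ) - 1) / r * if ψ ∈ O then (N : ℂ) else 0) / (ψ : G → ℂ) 1 := by
    intro ψ
    rw [omega_eq_sum, ← hinner]
    congr 1
    refine Fintype.sum_equiv (Equiv.inv G) _ _ fun g => ?_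
    simp only [z, Equiv.inv_apply]
    rw [← Char.IsCharacter.apply_inv (Char.IsIrrCharacter.isCharacter ψ.2), inv_inv]
  -- the degree divides
  obtain ⟨q, hq⟩ : ∃ q : ℕ, q * (r * charDegree (χ : G → ℂ)) = (p - 1) * N := by
    have hden : r * charDegree (χ : G → ℂ) ≠ 0 := Nat.mul_ne_zero hr0 (charDegree_pos χ).ne'
    have hwint : IsIntegral ℤ (omega (χ : G → ℂ) z) := by
      have := Fintype.ofFinite (ConjClasses G)
      rw [omega_eq_sum_classes hzcf χ]
      exact IsIntegral.sum _ fun c _ => ((key _).1).mul (isIntegral_centralChar χ _)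
    have hw : omega (χ : G → ℂ) z * ((r * charDegree (χ : G → ℂ) : ℕ) : ℂ) = (((p - 1) * N : ℕ) : ℤ) := by
      rw [homega, if_pos hχO]
      have h1 := irr_one_ne_zero χ
      have h2 : (r : ℂ) ≠ 0 := Nat.cast_ne_zero.2 hr0
      rw [Int.cast_natCast, Nat.cast_mul, Nat.cast_mul, Nat.cast_sub hp.pos, Nat.cast_one, charDegree_cast]
      field_simp
    obtain ⟨j, hj⟩ := Char.exists_int_of_isIntegral_mul hden ((mul_comm _ _).trans hw) hwint
    refine ⟨j.natAbs, ?_⟩
    rw [hj] at hw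
    have h3 : j * ((r * charDegree (χ : G → ℂ) : ℕ) : ℤ) = (((p - 1) * N : ℕ) : ℤ) := by exact_mod_cast hw
    have := congrArg Int.natAbs h3
    rwa [Int.natAbs_mul, Int.natAbs_natCast, Int.natAbs_natCast] at this
  have hpp : ¬ p ∣ p - 1 := fun h => by
    have := Nat.le_of_dvd (Nat.sub_pos_of_lt hp.one_lt) h
    have := hp.one_lt
    omega
  have hq0 : q ≠ 0 := fun h => by
    rw [h, zero_mul] at hq
    exact (Nat.mul_pos (Nat.sub_pos_of_lt hp.one_lt) (Nat.pos_of_ne_zero hN0)).ne hq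
  have hval : q.factorization p + (r * charDegree (χ : G → ℂ)).factorization p = a := by
    have h := congrArg (fun x => x.factorization p) hq
    simp only [Nat.factorization_mul hq0 (Nat.mul_ne_zero hr0 (charDegree_pos χ).ne'),
      Nat.factorization_mul (Nat.sub_pos_of_lt hp.one_lt).ne' hN0, Finsupp.coe_add, Pi.add_apply,
      Nat.factorization_eq_zero_of_not_dvd hpp, zero_add] at h
    exact h
  refine ⟨by omega, fun hdvd => ?_⟩
  by_contra hnd
  have hqp : ¬ p ∣ q := by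
    intro h
    have h1 := (hp.pow_dvd_iff_le_factorization (Nat.mul_ne_zero hr0 (charDegree_pos χ).ne')).1 hdvd
    have h2 := (hp.dvd_iff_one_le_factorization hq0).1 h
    omega
  -- the orbit is a union of blocks
  obtain ⟨M, hM⟩ := exists_isPModular hp
  have hdeg : ∀ ψ ∈ O, charDegree (ψ : G → ℂ) = charDegree (χ : G → ℂ) := by
    intro ψ hψ
    obtain ⟨j, -, rfl⟩ := Finset.mem_image.1 hψ
    refine Nat.cast_injective (R := ℂ) ?_
    rw [charDegree_cast, charDegree_cast, hf, one_pow]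
  have hOint : blockInd (O : Set (IrrCharacter G)) ∈ intRing hM := by
    have h1 : blockInd (O : Set (IrrCharacter G)) = fun ψ => (q : ℂ)⁻¹ * omegaFun z ψ := by
      funext ψ
      rw [omegaFun, homega]
      by_cases hψ : ψ ∈ O
      · rw [blockInd_of_mem (Finset.mem_coe.2 hψ), if_pos hψ, ← charDegree_cast, hdeg ψ hψ]
        have h2 : (r : ℂ) ≠ 0 := Nat.cast_ne_zero.2 hr0
        have h3 : (charDegree (χ : G → ℂ) : ℂ) ≠ 0 := Nat.cast_ne_zero.2 (charDegree_pos χ).ne'
        have h4 : (q : ℂ) ≠ 0 := Nat.cast_ne_zero.2 hq0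
        have h5 := congrArg (fun x : ℕ => (x : ℂ)) hq
        simp only [Nat.cast_mul, Nat.cast_sub hp.pos, Nat.cast_one] at h5
        field_simp
        linear_combination h5
      · rw [blockInd_of_notMem (fun h => hψ (Finset.mem_coe.1 h)), if_neg hψ, mul_zero, zero_div,
          mul_zero]
    rw [h1]
    exact (intRing hM).mul_mem (const_mem_intRing hM (memR_natCast_inv hM hqp))
      (omega_mem_intRing hM hzcf fun g => memR_of_isIntegral hM (key g⁻¹).1)
  set B := blockOf M (χ : G → ℂ) with hBdef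
  have hB := isPBlock_blockOf hM χ
  have hBO : ∀ ψ ∈ B, ψ ∈ O := fun ψ hψ => Finset.mem_coe.1
    (mem_of_sameBlock hM hOint (Finset.mem_coe.2 hχO) hψ)
  have hinf : sInf ((fun ψ : IrrCharacter G => (charDegree (ψ : G → ℂ)).factorization p) '' B) =
      (charDegree (χ : G → ℂ)).factorization p := by
    obtain ⟨ψ, hψ, h⟩ := Nat.sInf_mem ((Set.nonempty_of_mem (mem_blockOf_self hM χ)).image
      fun ψ : IrrCharacter G => (charDegree (ψ : G → ℂ)).factorization p)
    rw [← h]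
    show (charDegree (ψ : G → ℂ)).factorization p = _
    rw [hdeg ψ (hBO ψ hψ)]
  have h0 : blockHeight p B (χ : G → ℂ) = 0 := by rw [blockHeight, hinf, Nat.sub_self]
  have hd0 : blockDefect p B ≠ 0 := by
    rw [blockDefect, hinf, ← hN, ← ha]
    have : ¬ a ≤ (charDegree (χ : G → ℂ)).factorization p := fun h =>
      hnd ((hp.pow_dvd_iff_le_factorization (charDegree_pos χ).ne').2 h)
    omega
  obtain ⟨D, hD⟩ := Blocks.exists_isDefectGroup (p := p) hM hB
  have hpD : p ∣ Nat.card D := by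
    rw [card_defectGroup hM hB hD]
    exact dvd_pow_self p hd0
  obtain ⟨y, hy, hyD⟩ := hD
  obtain ⟨⟨x, hxD⟩, hx⟩ := exists_prime_orderOf_dvd_card' p hpD
  rw [← Subgroup.orderOf_coe] at hx
  change orderOf x = p at hx
  have hxy : Commute x y := Blocks.mem_centralizer_singleton.1 (sylowIn_le hyD hxD)
  have hyreg := pRegular_of_blockCoeff hM hB hy.2.1
  have hcop : (orderOf x).Coprime (orderOf y) := by
    rw [hx]; exact hp.coprime_iff_not_dvd.2 hyreg
  have hym : y ^ m = 1 := by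
    refine orderOf_dvd_iff_pow_eq_one.1 (Nat.Coprime.dvd_of_dvd_mul_right (n := P) ?_ (by rw [hNeq]; exact orderOf_dvd_natCard y))
    exact Nat.Coprime.pow_right _ (hp.coprime_iff_not_dvd.2 hyreg).symm
  have hg : (x * y) ^ (p * m) = 1 := by
    rw [hxy.mul_pow, pow_mul, ← hx, pow_orderOf_eq_one, one_pow, one_mul, hx, mul_comm, pow_mul,
      hym, one_pow]
  have hk0y : (x * y) ^ k₀ = y := by
    rw [hxy.mul_pow]
    obtain ⟨c, hc⟩ := (Nat.modEq_zero_iff_dvd.1 hk₀P)
    rw [show x ^ k₀ = 1 from orderOf_dvd_iff_pow_eq_one.1 (by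
      rw [hx, hc]
      exact (dvd_pow_self p (by omega : a ≠ 0)).trans (dvd_mul_right _ _)), one_mul]
    conv_rhs => rw [← pow_one y]
    exact pow_eq_pow_iff_modEq.2 (hk₀m.of_dvd (orderOf_dvd_of_pow_eq_one hym))
  obtain ⟨w, hw, hSw⟩ := (key (x * y)).2 hg
  rw [hk0y] at hSw
  have hS0 : S (x * y) = 0 := by
    have hsing : p ∣ orderOf (x * y) := by
      rw [hxy.orderOf_mul_eq_mul_orderOf_of_coprime hcop, hx]
      exact dvd_mul_right _ _
    have h := weak_orth hM hOint (x := 1) (by simpa using hp.one_lt.ne') hsing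
    rw [finsum_mem_eq_toFinset_sum, Finset.toFinset_coe] at h
    have h2 : ∀ ψ ∈ O, (ψ : G → ℂ) 1 * conj ((ψ : G → ℂ) (x * y)) =
        (χ : G → ℂ) 1 * conj ((ψ : G → ℂ) (x * y)) := fun ψ hψ => by
      rw [← charDegree_cast ψ, hdeg ψ hψ, charDegree_cast]
    rw [Finset.sum_congr rfl h2, ← Finset.mul_sum, mul_eq_zero, or_iff_right (irr_one_ne_zero χ),
      ← map_sum, map_eq_zero] at h
    simp only [S, Ψ, h, mul_zero]
  rw [hS0, zero_add] at hSw
  refine not_memI_apply_of_height_zero hM hB hy (mem_blockOf_self hM χ) h0 (x := 1) ⟨0, by simp⟩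
    (Commute.one_left y) ?_
  rw [one_mul, hSw]
  exact memI_mul_right hM (memI_p hM) (memR_of_isIntegral hM hw)

end Cfsg.Agent.PConjCount
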